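import Groth.Agent.L29.DCoh.Gen.PerfBuilt
import Groth.Agent.L29.DCoh.Gen.Support
import Groth.Agent.Lead.PCProjBasic
import Groth.Agent.L15.Hyper.OmegaVanish
import Groth.Agent.L16.HomSh.QAffineCompletion

/-!
Countability of maps out of perfect objects.
-/

set_option autoImplicit false
set_option linter.style.haveILetI false
set_option backward.defeqAttrib.useBackward true
set_option backward.isDefEq.respectTransparency false
set_option backward.isDefEq.respectTransparency.types false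

universe u

open CategoryTheory CategoryTheory.Limits CategoryTheory.Pretriangulated AlgebraicGeometry

attribute [local instance] HasDerivedCategory.standard

noncomputable section

namespace Groth.Lead.CountHom

open Groth.L29.DC Groth.L29.DC.Gen Groth.L29.Thick

variable {X : Scheme.{u}}

/-- countably many sections over affine opens -/
def Cnt (K : DCoh.D X) : Prop :=
  ∀ (W : Scheme.{u}) [IsAffine W] (j : W ⟶ X) [IsOpenImmersion j] (i : ℤ),
    Countable Γ(DCoh.HD ((DCoh.restrictD j).obj K) i, ⊤)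

theorem countable_of_iso {M N : X.Modules} (e : M ≅ N) (U : X.Opens) (h : Countable Γ(M, U)) : Countable Γ(N, U) := by
  refine Function.Injective.countable (f := fun x : Γ(N, U) => e.inv.app U x) fun a b hab => ?_
  have := congrArg (fun x => e.hom.app U x) hab
  have key : ∀ x : Γ(N, U), e.hom.app U (e.inv.app U x) = x := fun x => congr(($(e.inv_hom_id)).app U x)
  simpa [key] using this

theorem Cnt.res {K : DCoh.D X} (h : Cnt K) (U : X.Opens) : Cnt ((Gen.res U).obj K) := by
  intro W _ j _ i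
  exact countable_of_iso ((DerivedCategory.homologyFunctor _ i).mapIso
    ((resTransD U.ι j (j ≫ U.ι) rfl).app K).symm) _ (h W (j ≫ U.ι) i)

/-- exactness in the middle keeps countability -/
theorem countable_mid {A B C : Type*} [AddCommGroup B] [AddCommGroup C] [Countable A] [Countable C] (g : A → B)
    (h : B →+ C) (hex : ∀ b, h b = 0 → ∃ a, g a = b) : Countable B := by
  classical
  let s : C → B := fun c => if hc : ∃ b, h b = c then hc.choose else 0
  refine Function.Surjective.countable (f := fun p : A × C => g p.1 + s p.2) fun b => ?_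
  have hs : h (s (h b)) = h b := by
    simp only [s, dif_pos (⟨b, rfl⟩ : ∃ b', h b' = h b)]
    exact (⟨b, rfl⟩ : ∃ b', h b' = h b).choose_spec
  obtain ⟨a, ha⟩ := hex (b - s (h b)) (by rw [map_sub, hs, sub_self])
  exact ⟨(a, h b), by simp [ha]⟩

/-- all maps out of perfect objects form countable sets -/
def Holds (X : Scheme.{u}) : Prop :=
  ∀ (K : DCoh.D X), DCoh.IsQCohD K → Cnt K → ∀ (E : DCoh.D X), DCoh.IsPerfect E → Countable (E ⟶ K)

/-- the structure sheaf detects zero on affine schemes -/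
theorem orth_affine [IsAffine X] {F : DCoh.D X} (hF : DCoh.IsQCohD F)
    (h : Ortho (DCoh.inD X (Coh.structureModule X)) F) : IsZero F := by
  refine Gen.isZero_of_hd fun j => ?_
  have hq := isQCohD_shift hF j
  obtain ⟨e⟩ := Cpt.nonempty_free_top (X := X)
  have hcl := TwistGen.cls_injective hq (A := (⊤ : X.Opens)) (isAffineOpen_top _)
  haveI : Coh.IsQCoh (DCoh.HD (F⟦j⟧) 0) := hq 0
  suffices hz : IsZero (DCoh.HD (F⟦j⟧) 0) from
    hz.of_iso (((DerivedCategory.homologyFunctor _ 0).shiftIso j 0 j (by omega)).app F).symm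
  refine Groth.L15.Hyper.isZero_of_subsingleton_sections _ fun x =>
    ⟨⊤, isAffineOpen_top _, trivial, subsingleton_of_forall_eq 0 fun σ => ?_⟩
  obtain ⟨ξ, hξ⟩ := hcl.2 (e.hom ≫ Groth.L16.homOfSection _ σ)
  let S₀ := DerivedCategory.singleFunctor X.Modules 0
  have hξ0 : ξ = 0 := by
    rw [← cancel_epi (S₀.map e.inv), comp_zero]
    refine (shiftFunctor _ (-j)).map_injective ?_
    rw [Functor.map_zero, ← cancel_mono ((shiftFunctorCompIsoId _ j (-j) (add_neg_cancel j)).hom.app F), zero_comp]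
    exact h (-j) _
  have h2 : e.hom ≫ Groth.L16.homOfSection (DCoh.HD (F⟦j⟧) 0) σ = 0 := by
    rw [← hξ, hξ0, Groth.L10.LocalDetect.cls_zero]
  have h3 : Groth.L16.homOfSection (DCoh.HD (F⟦j⟧) 0) σ = 0 := by
    rw [← cancel_epi e.hom, h2, comp_zero]
  rw [← Groth.L18.GenLoc.secOf_homOfSection σ, h3]
  rfl

/-- affine schemes -/
theorem holds_affine (V : X.Opens) (hV : IsAffineOpen V) (K : DCoh.D X) (hK : DCoh.IsQCohD K) (hc : Cnt K)
    (E : DCoh.D (V : Scheme.{u})) (hE : DCoh.IsPerfect E) : Countable (E ⟶ (Gen.res V).obj K) := by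
  haveI : IsAffine (V : Scheme.{u}) := hV
  let L := (Gen.res V).obj K
  have hL : DCoh.IsQCohD L := isQCohD_restrictD V.ι hK
  let OV := DCoh.inD (V : Scheme.{u}) (Coh.structureModule (V : Scheme.{u}))
  have hO : DCoh.IsPerfect OV := Groth.Lead.PCProj.isPerfect_inD (Groth.L16.HomSh.isFinLocFree_unit _)
  have hgen : ∀ n : ℤ, Countable (OV⟦n⟧ ⟶ L) := fun n => by
    obtain ⟨e⟩ := Cpt.nonempty_free_top (X := (V : Scheme.{u}))
    have hcl := TwistGen.cls_injective (isQCohD_shift hL (-n)) (A := (⊤ : (V : Scheme.{u}).Opens)) (isAffineOpen_top _)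
    haveI : Countable Γ(DCoh.HD (L⟦-n⟧) 0, ⊤) :=
      countable_of_iso (((DerivedCategory.homologyFunctor _ 0).shiftIso (-n) 0 (-n) (by omega)).app L).symm _
        (hc (V : Scheme.{u}) V.ι (-n))
    let S₀ := DerivedCategory.singleFunctor (V : Scheme.{u}).Modules 0
    let t : (OV⟦n⟧ ⟶ L) → (S₀.obj (QRlim.free (V : Scheme.{u}) ⊤) ⟶ L⟦-n⟧) := fun φ =>
      S₀.map e.hom ≫ (shiftFunctorCompIsoId _ n (-n) (add_neg_cancel n)).inv.app OV ≫ φ⟦-n⟧'
    refine Function.Injective.countable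
      (f := fun φ => Groth.L18.GenLoc.secOf (e.inv ≫ Groth.L10.LocalDetect.cls (t φ))) fun a b hab => ?_
    have h2 := congrArg (Groth.L16.homOfSection _) hab
    simp only [Groth.L18.GenLoc.homOfSection_secOf] at h2
    have h3 := hcl.1 ((cancel_epi e.inv).1 h2)
    exact (shiftFunctor _ (-n)).map_injective
      ((cancel_epi ((shiftFunctorCompIsoId _ n (-n) (add_neg_cancel n)).inv.app OV)).1 ((cancel_epi (S₀.map e.hom)).1 h3))
  obtain ⟨Y, hY, ⟨r⟩⟩ := exists_retract_of_generator hO (fun F hF h => orth_affine hF h) hE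
  suffices hYc : Countable (Y ⟶ L) from
    Function.Injective.countable (f := fun φ : E ⟶ L => r.r ≫ φ) fun a b hab => by
      simpa using congrArg (fun x => r.i ≫ x) hab
  clear r hE
  induction hY with
  | gen n => exact hgen n
  | zero h =>
    haveI : Subsingleton (_ ⟶ L) := ⟨fun a b => h.eq_of_src a b⟩
    infer_instance
  | ext T hT _ _ h₁ h₃ =>
    haveI := h₁
    haveI := h₃
    exact countable_mid (fun z : T.obj₃ ⟶ L => T.mor₂ ≫ z) (Preadditive.leftComp L T.mor₁)
      fun b hb => (Triangle.yoneda_exact₂ _ hT b hb).imp fun g hg => hg.symm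
  | @iso A B e _ h =>
    haveI := h
    exact Function.Injective.countable (f := fun φ : B ⟶ L => e.hom ≫ φ) fun a b hab => (cancel_epi e.hom).1 hab

set_option maxHeartbeats 1600000 in
/-- Mayer–Vietoris step -/
theorem holds_union [CompactSpace X] [QuasiSeparatedSpace X] (U V : X.Opens) (_hU : IsCompact (U : Set X))
    (hV : IsAffineOpen V) (_hW : IsCompact ((U ⊓ V : X.Opens) : Set X)) (hUV : U ⊔ V = ⊤)
    (h : Holds (U : Scheme.{u})) (h' : Holds ((U ⊓ V : X.Opens) : Scheme.{u})) : Holds X := by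
  intro K hK hc E hE
  obtain ⟨d, hT⟩ := Gen.exists_mv hUV K
  have hres : ∀ (A : X.Opens) (F : DCoh.D X), Countable ((Gen.res A).obj F ⟶ (Gen.res A).obj K) →
      Countable (F ⟶ (Gen.push A).obj ((Gen.res A).obj K)) := fun A F hA =>
    haveI := hA
    Function.Injective.countable ((Gen.adj A).homEquiv F _).symm.injective
  haveI := hres U E (h _ (isQCohD_restrictD U.ι hK) (hc.res U) _ (EvalMain.isPerfect_restrictD U.ι hE))
  haveI := hres V E (holds_affine V hV K hK hc _ (EvalMain.isPerfect_restrictD V.ι hE))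
  haveI := hres (U ⊓ V) (E⟦(1 : ℤ)⟧) (h' _ (isQCohD_restrictD (U ⊓ V).ι hK) (hc.res (U ⊓ V)) _
    (EvalMain.isPerfect_restrictD (U ⊓ V).ι (perfect_shift hE 1)))
  haveI : Countable (E ⟶ (Gen.push U).obj ((Gen.res U).obj K) ⊞ (Gen.push V).obj ((Gen.res V).obj K)) :=
    Function.Injective.countable (f := fun φ => (φ ≫ biprod.fst, φ ≫ biprod.snd)) fun a b hab =>
      biprod.hom_ext _ _ (congrArg Prod.fst hab) (congrArg Prod.snd hab)
  haveI : Countable (E ⟶ ((Gen.push (U ⊓ V)).obj ((Gen.res (U ⊓ V)).obj K))⟦(-1 : ℤ)⟧) := by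
    let c := (shiftFunctorCompIsoId (DCoh.D X) (-1 : ℤ) 1 (neg_add_cancel 1)).hom.app
      ((Gen.push (U ⊓ V)).obj ((Gen.res (U ⊓ V)).obj K))
    let f : (E ⟶ ((Gen.push (U ⊓ V)).obj ((Gen.res (U ⊓ V)).obj K))⟦(-1 : ℤ)⟧) →
        (E⟦(1 : ℤ)⟧ ⟶ (Gen.push (U ⊓ V)).obj ((Gen.res (U ⊓ V)).obj K)) := fun φ => φ⟦(1 : ℤ)⟧' ≫ c
    exact Function.Injective.countable (f := f) fun a b hab =>
      (shiftFunctor _ (1 : ℤ)).map_injective ((cancel_mono c).1 hab)
  let T := (Triangle.mk (biprod.lift ((Gen.adj U).unit.app K) (-((Gen.adj V).unit.app K)))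
    (biprod.desc (mvMap U (U ⊓ V) K (isIso_res_inf_unit U V K).1) (mvMap V (U ⊓ V) K (isIso_res_inf_unit U V K).2))
    d).invRotate
  have hT' : T ∈ distTriang _ := inv_rot_of_distTriang _ hT
  haveI : Countable (E ⟶ T.obj₁) :=
    inferInstanceAs (Countable (E ⟶ ((Gen.push (U ⊓ V)).obj ((Gen.res (U ⊓ V)).obj K))⟦(-1 : ℤ)⟧))
  haveI : Countable (E ⟶ T.obj₃) :=
    inferInstanceAs (Countable (E ⟶ (Gen.push U).obj ((Gen.res U).obj K) ⊞ (Gen.push V).obj ((Gen.res V).obj K)))
  exact countable_mid (B := E ⟶ T.obj₂) (fun z => z ≫ T.mor₁) (Preadditive.rightComp E T.mor₂)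
    fun b hb => (Triangle.coyoneda_exact₂ T hT' b hb).imp fun g hg => hg.symm

/-- induction on the number of affines -/
theorem holds_of_affines (P : Scheme.{u} → Prop) (hP : ∀ (X : Scheme.{u}) (U : X.Opens), P X → P (U : Scheme.{u}))
    (hinter : ∀ (X : Scheme.{u}), P X → ∀ [QuasiSeparatedSpace X] (n : ℕ) (A : Fin n → X.Opens) (V : X.Opens),
      (∀ i, IsAffineOpen (A i)) → IsAffineOpen V →
      (∀ (Y : Scheme.{u}) [QuasiSeparatedSpace Y] (B : Fin n → Y.Opens), P Y → (∀ i, IsAffineOpen (B i)) →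
        (⨆ i, B i) = ⊤ → Holds Y) → Holds (((⨆ i, A i) ⊓ V : X.Opens) : Scheme.{u})) :
    ∀ (n : ℕ) (X : Scheme.{u}) [QuasiSeparatedSpace X] (A : Fin n → X.Opens), P X →
      (∀ i, IsAffineOpen (A i)) → (⨆ i, A i) = ⊤ → Holds X
  | 0, X, _, A, _, _, h => fun K _ _ E _ => by
    have hz : IsZero K := Gen.isZero_of_cover fun x => by
      have : x ∈ (⨆ i, A i) := h ▸ trivial
      obtain ⟨i, -⟩ := TopologicalSpace.Opens.mem_iSup.1 this
      exact i.elim0
    haveI : Subsingleton (E ⟶ K) := ⟨fun a b => hz.eq_of_tgt a b⟩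
    infer_instance
  | n + 1, X, _, A, hX, hA, h => by
    let U : X.Opens := ⨆ i : Fin n, A i.castSucc
    have hsub : ∀ i : Fin n, A i.castSucc ≤ U := fun i => le_iSup (fun i => A i.castSucc) i
    have hU : IsCompact (U : Set X) := by
      rw [TopologicalSpace.Opens.coe_iSup]
      exact isCompact_iUnion fun i => (hA _).isCompact
    haveI : CompactSpace X := isCompact_univ_iff.1 (by
      have : ((⨆ i, A i : X.Opens) : Set X) = Set.univ := by rw [h]; rfl
      rw [← this, TopologicalSpace.Opens.coe_iSup]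
      exact isCompact_iUnion fun i => (hA i).isCompact)
    have ih : ∀ (Y : Scheme.{u}) [QuasiSeparatedSpace Y] (B : Fin n → Y.Opens), P Y → (∀ i, IsAffineOpen (B i)) →
        (⨆ i, B i) = ⊤ → Holds Y := fun Y _ B => holds_of_affines P hP hinter n Y B
    haveI : QuasiSeparatedSpace (U : Scheme.{u}) := U.ι.isOpenEmbedding.quasiSeparatedSpace
    refine holds_union U (A (Fin.last n)) hU (hA _) ?_ ?_ (ih _ (fun i => U.ι ⁻¹ᵁ A i.castSucc) (hP X U hX)
      (fun i => (hA _).preimage_of_isOpenImmersion U.ι (by rw [Scheme.Opens.opensRange_ι]; exact hsub i))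
      (eq_top_iff.2 fun x _ => ?_)) (hinter X hX n (fun i => A i.castSucc) (A (Fin.last n)) (fun i => hA _) (hA _) ih)
    · rw [TopologicalSpace.Opens.coe_inf]
      exact QuasiSeparatedSpace.inter_isCompact _ _ U.2 hU (A _).2 (hA _).isCompact
    · refine eq_top_iff.2 fun x _ => ?_
      have : x ∈ (⨆ i, A i) := h ▸ trivial
      obtain ⟨i, hi⟩ := TopologicalSpace.Opens.mem_iSup.1 this
      cases i using Fin.lastCases with
      | last => exact Or.inr hi
      | cast j => exact Or.inl (hsub j hi)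
    · obtain ⟨i, hi⟩ := TopologicalSpace.Opens.mem_iSup.1 (show U.ι x ∈ ⨆ i : Fin n, A i.castSucc from x.2)
      exact TopologicalSpace.Opens.mem_iSup.2 ⟨i, hi⟩

theorem isSeparated_opens {X : Scheme.{u}} (U : X.Opens) (hX : X.IsSeparated) : (U : Scheme.{u}).IsSeparated :=
  haveI := hX
  ⟨by rw [← terminal.comp_from U.ι]; infer_instance⟩

/-- separated schemes -/
theorem holds_separated (n : ℕ) (X : Scheme.{u}) [QuasiSeparatedSpace X] (A : Fin n → X.Opens) (hX : X.IsSeparated)
    (hA : ∀ i, IsAffineOpen (A i)) (h : (⨆ i, A i) = ⊤) : Holds X := by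
  refine holds_of_affines (fun Y => Y.IsSeparated) (fun Y U hY => isSeparated_opens U hY) (fun Y hY => ?_) n X A hX hA h
  intro _ n A V hA hV ih
  haveI := hY
  let W : Y.Opens := (⨆ i, A i) ⊓ V
  haveI : QuasiSeparatedSpace (W : Scheme.{u}) := W.ι.isOpenEmbedding.quasiSeparatedSpace
  refine ih _ (fun i => W.ι ⁻¹ᵁ A i) (isSeparated_opens W hY) (fun i => ?_) (eq_top_iff.2 fun x _ => ?_)
  · rw [show W.ι ⁻¹ᵁ A i = W.ι ⁻¹ᵁ (A i ⊓ V) from TopologicalSpace.Opens.ext (Set.ext fun x =>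
      ⟨fun hx => ⟨hx, x.2.2⟩, fun hx => hx.1⟩)]
    exact ((hA i).inf hV).preimage_of_isOpenImmersion W.ι (by
      rw [Scheme.Opens.opensRange_ι]; exact inf_le_inf_right V (le_iSup A i))
  · obtain ⟨i, hi⟩ := TopologicalSpace.Opens.mem_iSup.1 (show W.ι x ∈ ⨆ i, A i from x.2.1)
    exact TopologicalSpace.Opens.mem_iSup.2 ⟨i, hi⟩

/-- qcqs schemes -/
theorem holds (X : Scheme.{u}) [CompactSpace X] [QuasiSeparatedSpace X] : Holds X := by
  classical
  have hcov : ∀ (Y : Scheme.{u}) [CompactSpace Y], ∃ (n : ℕ) (A : Fin n → Y.Opens), (∀ i, IsAffineOpen (A i)) ∧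
      (⨆ i, A i) = ⊤ := by
    intro Y _
    obtain ⟨t, ht⟩ := (isCompact_univ (X := Y)).elim_finite_subcover (fun V : Y.affineOpens => (V.1 : Set Y))
      (fun V => V.1.2) fun x _ => by
        obtain ⟨_, ⟨V, hV, rfl⟩, hxV, -⟩ := Y.isBasis_affineOpens.exists_subset_of_mem_open (Set.mem_univ x) isOpen_univ
        exact Set.mem_iUnion.2 ⟨⟨V, hV⟩, hxV⟩
    refine ⟨t.card, fun i => (t.equivFin.symm i).1.1, fun i => (t.equivFin.symm i).1.2, eq_top_iff.2 fun x _ => ?_⟩
    obtain ⟨V, hV, hx⟩ := Set.mem_iUnion₂.1 (ht (Set.mem_univ x))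
    exact TopologicalSpace.Opens.mem_iSup.2 ⟨t.equivFin ⟨V, hV⟩, by simpa using hx⟩
  obtain ⟨n, A, hA, h⟩ := hcov X
  refine holds_of_affines (fun _ => True) (fun _ _ _ => trivial) ?_ n X A trivial hA h
  intro Y _ _ n A V hA hV _
  let W : Y.Opens := (⨆ i, A i) ⊓ V
  have hW : IsCompact (W : Set Y) := by
    rw [TopologicalSpace.Opens.coe_inf]
    refine QuasiSeparatedSpace.inter_isCompact _ _ (⨆ i, A i).2 ?_ V.2 hV.isCompact
    rw [TopologicalSpace.Opens.coe_iSup]
    exact isCompact_iUnion fun i => (hA _).isCompact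
  haveI : CompactSpace (W : Scheme.{u}) := isCompact_iff_compactSpace.1 hW
  haveI : QuasiSeparatedSpace (W : Scheme.{u}) := W.ι.isOpenEmbedding.quasiSeparatedSpace
  have hsep : (W : Scheme.{u}).IsSeparated := by
    haveI : IsAffine (V : Scheme.{u}) := hV
    exact ⟨by rw [← terminal.comp_from (Y.homOfLE (inf_le_right : W ≤ V))]; infer_instance⟩
  obtain ⟨m, B, hB, hB'⟩ := hcov (W : Scheme.{u})
  exact holds_separated m _ B hsep hB hB'

/-- the hypothesis in the frozen form -/
theorem cnt_of_sections (K : DCoh.D X)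
    (h : ∀ V : X.Opens, IsAffineOpen V → ∀ i : ℤ, Countable ((DCoh.HD K i).val.obj (Opposite.op V))) : Cnt K := by
  intro W _ j _ i
  refine countable_of_iso (M := (DCoh.HD K i).restrict j) (HDResIso j K i).symm ⊤ ?_
  exact h (j ''ᵁ ⊤) (by rw [Scheme.Hom.image_top_eq_opensRange]; exact isAffineOpen_opensRange j) i

end Groth.Lead.CountHom
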